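import Cfsg.Agent.Lib.Mult.Cov
import Cfsg.Agent.Lib.Id.Co1

/-! The double cover `Co0` of `Co1`. -/

set_option autoImplicit false
set_option maxRecDepth 100000
set_option Elab.async false

namespace Cfsg.Agent.Mult.Co1

open Cfsg.Agent.Id Cfsg.Spor Finset
open scoped commutatorElement

/-- The sign change on a dodecad. -/
def TA : ℕ := 0x821084210842108421084210842108441084210842108421084210842108422084210842108421084210842108421104210842108421084210842108421088210842108421084210842108421084010842108421084210842108421084220842108421084210842108421084210042108421084210842108421084210882108421084210842108421084210844108421084210842108421084210842008421084210842108421084210842100421084210842108421084210842108821084210842108421084210842108441084210842108421084210842108420084210842108421084210842108421004210842108421084210842108421088210842108421084210842108421084010842108421084210842108421084220842108421084210842108421084210042108421084210842108421084210802108421084210842108421084210840108421084210842108421084210842008421084210842108421084210842100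

/-- A permutation exchanging the dodecad with its complement. -/
def TB : ℕ := 0x421084210842108421084210842110421084210842108421084210842208421084210842110421084210842108421084210842108421104210842108421084210842108421084410842108421084210844108421084210842108421084210842108421084211042108421084210842108441084210842108421084210842108421084210882108421084410842108421084210842108421084210842108421088210842108422084210842108421084210842108421084210842108421084210844108421084211042108421084210842108421084210842108421084220842108421104210842108421084210842108421084210842208421084210842108421088210842108421084210842108421084210842108422084210842108421084220842108421084210842108421084210882108421084210842108421084210842108821084210842108441084210842108421084210842108821084210842108421084210842108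

theorem okA : MatOK TA := ⟨by decide +kernel, by decide +kernel, by decide +kernel, by decide +kernel⟩

theorem okB : MatOK TB := ⟨by decide +kernel, by decide +kernel, by decide +kernel, by decide +kernel⟩

theorem anti : ∀ p r, ∑ q, mat TA p q * mat TB q r = -∑ q, mat TB p q * mat TA q r := by decide +kernel

theorem negOne_mem : negOne ∈ commutator Co0 := by
  obtain ⟨g, hg, h1⟩ := okA.exists
  obtain ⟨h, hh, h2⟩ := okB.exists
  have key : ∀ {S T : ℕ} {g h : Equiv.Perm leechLattice}, (∀ x p, mvec S x.1 p = 8 * (g x).1 p) →
      (∀ x p, mvec T x.1 p = 8 * (h x).1 p) → ∀ x p,
      64 * (g (h x)).1 p = ∑ r, (∑ q, mat S p q * mat T q r) * x.1 r := fun {S T g h} h1 h2 x p => by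
    rw [show (64 : ℤ) = 8 * 8 from rfl, mul_assoc, ← h1, mvec, mul_sum]
    simp only [sum_mul, mul_assoc]
    rw [sum_comm]
    exact sum_congr rfl fun q _ => by rw [← mul_sum, mul_left_comm, ← h2, mvec]
  have : negOne = ⁅(⟨g, hg⟩ : Co0), ⟨h, hh⟩⁆ := by
    rw [commutatorElement_def, eq_mul_inv_iff_mul_eq, eq_mul_inv_iff_mul_eq]
    refine Subtype.ext (Equiv.ext fun x => Subtype.ext (funext fun p => ?_))
    have e1 := key h1 h2 x p
    have e2 := key h2 h1 x p
    simp only [anti, neg_mul, sum_neg_distrib, ← e2] at e1
    change -(h (g x)).1 p = (g (h x)).1 p
    omega
  exact this ▸ Subgroup.commutator_mem_commutator (Subgroup.mem_top _) (Subgroup.mem_top _)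

theorem ex : EX CG.Co1.PG (Multiplicative (ZMod 2)) := by
  obtain ⟨f, h1, h2, -⟩ := Id.Co1.exists_hom
  refine ⟨Co0, inferInstance, card_Co0_le.1, f, ⟨h1, h2 ▸ Subgroup.zpowers_le_of_mem negOne_mem_center,
    h2 ▸ Subgroup.zpowers_le_of_mem negOne_mem⟩, ?_⟩
  rw [h2]
  exact ⟨mulEquivOfCyclicCardEq (by simp [orderOf_negOne])⟩

end Cfsg.Agent.Mult.Co1
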