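import Cfsg.Agent.Lib.Mult.Glue
import Cfsg.Agent.Lib.Grp.Co1.Main

set_option autoImplicit false
set_option maxRecDepth 100000
set_option Elab.async false

namespace Cfsg.Agent.Mult.Co1

open Cfsg.Agent.CG Cfsg.Agent.CG.Co1

noncomputable def p5T : ℕ := 0x801800400c0020060010030000000000000001807248c0f00060180000000000000000006db407800200c00000000000000000000000000008060000000000000000000000000000000
noncomputable def p5q1 : ℕ := 0x100000003000000080000001
noncomputable def p5q2 : ℕ := 0x1000008db0001124a46da489
noncomputable def p5NF : ℕ := 0x2000000000000000000000000000000000000000000000000000000000000000000004000000000000000000200000000000000000000000000000000000000000000000000000000000000000000400000000000000000020000000000000000000000000000000000000000000000000000000000000000000000000000000000001000000000000000000000000000000000000000000000000000000000000000000000000000000000000000000000000000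
noncomputable def p5mNF : ℕ := 0x3ffffffffffffffff
noncomputable def p5gv : ℕ := 0x30000040000000000c00000000004000000000000080000000000000
noncomputable def p5mgv : ℕ := 0x3ffffffffffffffff
noncomputable def p5av : ℕ := 0x800000000000000000000080000000000000000000000000000000000000000000000000000
noncomputable def p5mav : ℕ := 0x3ffffffffffffffff
noncomputable def p5mu : ℕ := 0x40000000000200000000000000c0000000000000000840000000000000000000
noncomputable def p5om : ℕ := 0x0
noncomputable def p5tm : ℕ := 0xeeee1039ee287eee65eeee4eeeeee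
noncomputable def p5par : ℕ := 0x2b183166
noncomputable def p5z : Desc := ⟨0,0,0,0,[],[]⟩
noncomputable def p5ds : Tr Desc := (.node (.node (.node (.node (.node (.leaf p5z) (.leaf ⟨0,3,0,0,[],[]⟩)) (.node (.leaf p5z) (.leaf ⟨1,0x3,1,1,[],[]⟩))) (.node (.node (.leaf p5z) (.leaf p5z)) (.node (.leaf ⟨0,2,0,0,[],[]⟩) (.leaf p5z)))) (.node (.node (.node (.leaf p5z) (.leaf ⟨1,0x492,2,1,[],[]⟩)) (.node (.leaf p5z) (.leaf p5z))) (.node (.node (.leaf ⟨0,0,0,0,[],[]⟩) (.leaf ⟨1,0x3,2,1,[],[]⟩)) (.leaf p5z)))) (.node (.node (.node (.node (.leaf p5z) (.leaf ⟨0,4,0,0,[],[]⟩)) (.node (.leaf p5z) (.leaf p5z))) (.node (.node (.leaf p5z) (.leaf ⟨0,5,0,0,[],[]⟩)) (.leaf p5z))) (.node (.node (.node (.leaf p5z) (.leaf p5z)) (.node (.leaf ⟨0,1,0,0,[],[]⟩) (.leaf p5z))) (.node (.node (.leaf p5z) (.leaf ⟨1,0x4,2,1,[],[]⟩)) (.leaf p5z)))))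
noncomputable def p5rd : Tr Desc := (.node (.node (.leaf ⟨2,0,0,0,[3,0],[0,3]⟩) (.leaf ⟨2,0,0,0,[1,1,1,1,1],[]⟩)) (.node (.leaf ⟨2,0,0,0,[2,1],[1,2]⟩) (.leaf ⟨2,0,0,0,[0,0,0,0,0],[]⟩)))
noncomputable def D5 : Dat where
  p := 5
  q := 5
  n1 := 5
  b := 3
  fl := 10
  ew := 25
  T := p5T
  w := 14
  fuel := 179
  nf := 1
  cm := 4
  q1 := fun x => look 0x3fffffff p5q1 (Nat.mul 30 x)
  q2 := fun x => look 0x3fffffff p5q2 (Nat.mul 30 x)
  NV := 29
  d := 6
  w2 := 11
  NF := fun x => look p5mNF p5NF (Nat.mul 66 x)
  tm := fun x => look 0xf p5tm (Nat.mul 4 x)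
  TM := 14
  par := fun x => look 0x1f p5par (Nat.mul 5 x)
  ds := fun x => p5ds.get x
  r := 4
  s0 := 0
  gv := fun x => look p5mgv p5gv (Nat.mul 66 x)
  rd := fun x => p5rd.get x
  av := fun x => look p5mav p5av (Nat.mul 66 x)
  mw := 3
  mu := fun x => look 0xfff p5mu (Nat.mul 12 x)
  ms := []
  om := fun x => look 0xfff p5om (Nat.mul 12 x)
noncomputable def p5w1 : List (List ℕ) := [[0,31,5,0,33,45,26,21,28,43,31,30,38,39,34,45,42],
  [37,41,52,27,35,42,21,39,29,28,31,39,33,45,33,45,44,41],
  [22,50,20,1,41,25,45,22,32,37,43,27,27,43,33,33,33,45,41,41],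
  [47,40,13,0,44,40,24,21,30,38,45,27,44,40,34,44],
  [21,1,19,0,22,32,22,28,38,30,28,33,33,42,39,44]]
noncomputable def p5w2 : List (List ℕ) := [[1],
  [2],
  [3],
  [4]]
noncomputable def p5L0c : ℕ := 0x174750768120dd07005c6a18c8e8463fe1f8528528ae05e80077bb62139601c908182370097ce0b7c304ed0e10fb48533b2106ae889bec1fdb5004efc2205f012e581a8d58
noncomputable def p5L0p : ℕ := 0x13000048000110000400000f0000380000d0000300000b0000280000900002000007000018000050000100000300000800001000000000030000080000100000000000
noncomputable def p5L0l : ℕ := 0x1000004000010000040000100000400001000004000010000040000100000400001000004000010000040000100000400001000004000040000100000400001000000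
noncomputable def p5L0q : ℕ := 0xa000000000000000000000000000000000000030000000000000000f00000000000000000000000000000000000000000000000000000000000000000000000c00000000000000000000000000000000000000000000000110000000000000004c00000000000000000000000000000000000000000024000000000580001500000000000000000000000000000000000003400000000000000000000000000000000800000000000000070000000000000000000000000000000000000000000000004000000000000000000000000000000000000000000000000000000000000e00000000000000000000000000000000400000000000000000000000000000000600000000000000000000000000600000000000000005000000000120000000000000000000000000020000000000000001700000400000000000000000000000000000000000000000000000000000000000000000000000000000000000000000000b00000000014000000000000000000000000000000000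
noncomputable def p5L1c : ℕ := 0x226fb041aba14cec843ed213b438
noncomputable def p5L1p : ℕ := 0x30000080000100000000000
noncomputable def p5L1l : ℕ := 0x300000c0000300000c00000
noncomputable def p5L1q : ℕ := 0x3000000000000000000000200000000000000000000000000100000000000000001
noncomputable def p5L2c : ℕ := 0x1da0486e83805c6a3191d174750
noncomputable def p5L2p : ℕ := 0x3000010000040000000000
noncomputable def p5L2l : ℕ := 0x2000010000080000400000
noncomputable def p5L2q : ℕ := 0x3000000000000000000002000000000000000000000000000000000000200004000000000000000000000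
noncomputable def p5L : List Lvl := [mkLvl 1740120 [4,1] 25 22 p5L0c p5L0p p5L0l 145 p5L0q,
  mkLvl 1291320 [3] 5 22 p5L1c p5L1p p5L1l 13 p5L1q,
  mkLvl 1525584 [2] 5 21 p5L2c p5L2p p5L2l 19 p5L2q]

theorem p5c0 : okcb 98280 24 (bases p5L) = true := by decide +kernel
theorem p5c1 : D5.chkNum 0 4 4157776806543360000 p5w2 p5L = true := by decide +kernel
theorem p5c2 : headAll (appW (appW app p5w1) p5w2) p5L [] = true := by decide +kernel
theorem p5c3 : allL (fun l => l.chk (appW (appW app p5w1) p5w2) 1 (l.N - 1)) p5L = true := by decide +kernel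
theorem p5c4 : D5.chkPc (appW app p5w1) bs 0 25 = true := by decide +kernel
theorem p5c5 : D5.chkFus (appW app p5w1) bs 0 4 = true := by decide +kernel
theorem p5c6 : D5.chkHead = true := by decide +kernel
theorem p5c7 : D5.chkVars 0 29 = true := by decide +kernel
theorem p5c8 : D5.chkRhos 0 4 = true := by decide +kernel
theorem p5c9 : D5.chkEnts 0 25 = true := by decide +kernel

set_option linter.unusedSectionVars false

variable [hF : Fact (Nat.card PG ≤ 4157776806543360000)]
include hF

theorem pb5 : PB PG 5 [] :=
  Dat.pbA (D := D5) base card (by norm_num : Nat.Prime 5) (okc_of_okcb p5c0) p5c1 p5c2 p5c3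
    p5c4
    p5c5
    p5c6 p5c7
    p5c8
    p5c9

end Cfsg.Agent.Mult.Co1
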