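import Cfsg.Agent.Lib.Mult.Glue
import Cfsg.Agent.Lib.Grp.Co1.Main

set_option autoImplicit false
set_option maxRecDepth 100000
set_option Elab.async false

namespace Cfsg.Agent.Mult.Co1

open Cfsg.Agent.CG Cfsg.Agent.CG.Co1

noncomputable def p7T : ℕ := 0x802802000000402000000000
noncomputable def p7q1 : ℕ := 0x200001
noncomputable def p7q2 : ℕ := 0xaa5550000a
noncomputable def p7NF : ℕ := 0x400000000004000000000000000000000000001000000000000000000000000000000000
noncomputable def p7gv : ℕ := 0x30000180000100000800006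
noncomputable def p7av : ℕ := 0x0
noncomputable def p7mu : ℕ := 0x181180000143000000000
noncomputable def p7om : ℕ := 0x0
noncomputable def p7tm : ℕ := 0x16a368b6d
noncomputable def p7par : ℕ := 0x874
noncomputable def p7z : Desc := ⟨0,0,0,0,[],[]⟩
noncomputable def p7ds : Tr Desc := (.node (.node (.node (.node (.leaf p7z) (.leaf ⟨0,2,0,0,[],[]⟩)) (.leaf ⟨0,0,0,0,[],[]⟩)) (.node (.node (.leaf p7z) (.leaf p7z)) (.leaf p7z))) (.node (.node (.node (.leaf p7z) (.leaf p7z)) (.leaf p7z)) (.node (.leaf p7z) (.leaf ⟨0,1,0,0,[],[]⟩))))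
noncomputable def p7rd : Tr Desc := (.node (.node (.leaf ⟨2,0,0,0,[0,0,0,0,0,0,0],[]⟩) (.leaf ⟨2,0,0,0,[1,1,1,1,1,1,1],[]⟩)) (.leaf ⟨2,0,0,0,[1,0],[0,1]⟩))
noncomputable def D7 : Dat where
  p := 7
  q := 7
  n1 := 3
  b := 2
  fl := 10
  ew := 12
  T := p7T
  w := 14
  fuel := 83
  nf := 1
  cm := 2
  q1 := fun x => look 0xfffff p7q1 (Nat.mul 20 x)
  q2 := fun x => look 0xfffff p7q2 (Nat.mul 20 x)
  NV := 11
  d := 3
  w2 := 11
  NF := fun x => look 0x1ffffffff p7NF (Nat.mul 33 x)
  tm := fun x => look 0x7 p7tm (Nat.mul 3 x)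
  TM := 5
  par := fun x => look 0xf p7par (Nat.mul 4 x)
  ds := fun x => p7ds.get x
  r := 3
  s0 := 0
  gv := fun x => look 0x1ffffffff p7gv (Nat.mul 33 x)
  rd := fun x => p7rd.get x
  av := fun x => look 0x1ffffffff p7av (Nat.mul 33 x)
  mw := 3
  mu := fun x => look 0x1ff p7mu (Nat.mul 9 x)
  ms := []
  om := fun x => look 0x1ff p7om (Nat.mul 9 x)
noncomputable def p7w1 : List (List ℕ) := [[33,15,52,43,33,31,22,27,38,35,39,27,35,40,40,33,41,41],
  [47,54,22,1,33,26,35,22,36,31,37,30,27,33,36,37,39,45,44],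
  [33,45,52,36,41,24,21,34,27,43,32,33,36,33,45,43,41]]
noncomputable def p7w2 : List (List ℕ) := [[1],
  [2]]
noncomputable def p7L0c : ℕ := 0xa6b4885ba20cd8006eef8066ca820616150378
noncomputable def p7L0p : ℕ := 0x5000010000030000080000100000000000
noncomputable def p7L0l : ℕ := 0x2000008000020000080000200000800000
noncomputable def p7L0q : ℕ := 0x400000000000000008000030000000000000000000000000000000000000000000000000000000000000000050000000000100000000006
noncomputable def p7L1c : ℕ := 0x7e360140160f74d01e57622cff87b1f8008418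
noncomputable def p7L1p : ℕ := 0x5000010000030000080000100000000000
noncomputable def p7L1l : ℕ := 0x1000004000010000040000100000400000
noncomputable def p7L1q : ℕ := 0x400000c0000000000800000000004000000000000000500001800000000000000000000000000000000000000
noncomputable def p7L : List Lvl := [mkLvl 1377144 [2] 7 22 p7L0c p7L0p p7L0l 23 p7L0q,
  mkLvl 33816 [1] 7 22 p7L1c p7L1p p7L1l 17 p7L1q]

theorem p7c0 : okcb 98280 24 (bases p7L) = true := by decide +kernel
theorem p7c1 : D7.chkNum 0 2 4157776806543360000 p7w2 p7L = true := by decide +kernel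
theorem p7c2 : headAll (appW (appW app p7w1) p7w2) p7L [] = true := by decide +kernel
theorem p7c3 : allL (fun l => l.chk (appW (appW app p7w1) p7w2) 1 (l.N - 1)) p7L = true := by decide +kernel
theorem p7c4 : D7.chkPc (appW app p7w1) bs 0 9 = true := by decide +kernel
theorem p7c5 : D7.chkFus (appW app p7w1) bs 0 2 = true := by decide +kernel
theorem p7c6 : D7.chkHead = true := by decide +kernel
theorem p7c7 : D7.chkVars 0 11 = true := by decide +kernel
theorem p7c8 : D7.chkRhos 0 3 = true := by decide +kernel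
theorem p7c9 : D7.chkEnts 0 9 = true := by decide +kernel

set_option linter.unusedSectionVars false

variable [hF : Fact (Nat.card PG ≤ 4157776806543360000)]
include hF

theorem pb7 : PB PG 7 [] :=
  Dat.pbA (D := D7) base card (by norm_num : Nat.Prime 7) (okc_of_okcb p7c0) p7c1 p7c2 p7c3
    p7c4
    p7c5
    p7c6 p7c7
    p7c8
    p7c9

end Cfsg.Agent.Mult.Co1
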